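import Groth.Agent.Lib.RigidBase.Trunc
import Groth.Agent.Lib.NilFree.AssFlat
import Groth.Agent.Lib.NilFree.Basic

/-!
# Flatness of ideally separated modules from the associated primes of a filtration
-/

set_option autoImplicit false
set_option linter.style.haveILetI false
universe u

open TensorProduct

namespace GrothLib.SepFlat

variable {A : Type u} [CommRing A] [IsNoetherianRing A] (J : Ideal A) (M : Type u) [AddCommGroup M] [Module A M]

omit [IsNoetherianRing A] in
/-- Flatness of a localization follows from flatness. -/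
theorem flat_localizedModule [Module.Flat A M] (S : Submonoid A) :
    Module.Flat (Localization S) (LocalizedModule S M) :=
  Module.Flat.of_linearEquiv (LocalizedModule.equivTensorProduct S M)

/-- Flatness from flatness modulo small ideals. -/
theorem flat_of_flat_quotients (hsep : ∀ a : Ideal A, IsHausdorff J (↥a ⊗[A] M))
    (h : ∀ n : ℕ, ∃ K : Ideal A, K ≤ J ^ n ∧ Module.Flat (A ⧸ K) ((A ⧸ K) ⊗[A] M)) : Module.Flat A M := by
  refine GrothLib.RigidBase.flat_of_forall_flat_quotient J M (fun n => ?_) (fun a => ?_) fun a _ => hsep a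
  · obtain ⟨K, hK, hfl⟩ := h (n + 1)
    letI : Algebra (A ⧸ K) (A ⧸ J ^ (n + 1)) := (Ideal.Quotient.factor hK).toAlgebra
    haveI : IsScalarTower A (A ⧸ K) (A ⧸ J ^ (n + 1)) := IsScalarTower.of_algebraMap_eq fun _ => rfl
    exact Module.Flat.of_linearEquiv
      (AlgebraTensorModule.cancelBaseChange A (A ⧸ K) (A ⧸ J ^ (n + 1)) (A ⧸ J ^ (n + 1)) M).symm
  · obtain ⟨k, hk⟩ := J.exists_pow_inf_eq_pow_smul (a : Submodule A A)
    refine ⟨k, fun m x hx => ?_⟩
    have h1 : x ∈ (J ^ (m + k) • ⊤ ⊓ (a : Submodule A A) : Submodule A A) := ⟨by simpa using hx.1, hx.2⟩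
    rw [hk (m + k) le_add_self, Nat.add_sub_cancel] at h1
    exact Submodule.smul_mono le_rfl inf_le_right h1

/-- Flatness modulo an ideal cofinal with the powers of `J`, from the associated primes. -/
theorem flat_quotient_of_associatedPrimes [Module.Flat (A ⧸ J) ((A ⧸ J) ⊗[A] M)] (K : Ideal A) {e : ℕ}
    (hJK : J ^ e ≤ K)
    (h : ∀ (q : Ideal A) [q.IsPrime], q ∈ associatedPrimes A (A ⧸ K) →
      Module.Flat (Localization.AtPrime q) (LocalizedModule q.primeCompl M)) :
    Module.Flat (A ⧸ K) ((A ⧸ K) ⊗[A] M) := by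
  let R := A ⧸ K
  let J' : Ideal R := J.map (Ideal.Quotient.mk K)
  have hJ' : IsNilpotent J' := ⟨e, by
    rw [← Ideal.map_pow, Ideal.zero_eq_bot, Ideal.map_eq_bot_iff_le_ker, Ideal.mk_ker]
    exact hJK⟩
  haveI : Module.Flat (R ⧸ J') ((R ⧸ J') ⊗[R] (R ⊗[A] M)) := by
    letI : Algebra (A ⧸ J) (R ⧸ J') := (Ideal.Quotient.lift J (algebraMap A (R ⧸ J')) fun a ha =>
      Ideal.Quotient.eq_zero_iff_mem.2 (Ideal.mem_map_of_mem _ ha)).toAlgebra
    haveI : IsScalarTower A (A ⧸ J) (R ⧸ J') := IsScalarTower.of_algebraMap_eq fun _ => rfl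
    haveI : Module.Flat (R ⧸ J') ((R ⧸ J') ⊗[A] M) := Module.Flat.of_linearEquiv
      (AlgebraTensorModule.cancelBaseChange A (A ⧸ J) (R ⧸ J') (R ⧸ J') M).symm
    exact Module.Flat.of_linearEquiv (AlgebraTensorModule.cancelBaseChange A R (R ⧸ J') (R ⧸ J') M)
  refine GrothLib.NilFree.flat_of_flat_at_associatedPrimes J' hJ' fun P hP hPass => ?_
  let q : Ideal A := P.comap (Ideal.Quotient.mk K)
  haveI : q.IsPrime := Ideal.IsPrime.comap _
  have hq : q ∈ associatedPrimes A R := by
    obtain ⟨-, x, hx⟩ := (isAssociatedPrime_iff (I := P) (M := R)).1 hPass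
    refine (isAssociatedPrime_iff (I := q) (M := R)).2 ⟨inferInstance, x, ?_⟩
    ext a
    rw [Submodule.mem_colon_singleton, Submodule.mem_bot, Ideal.mem_comap, hx, Submodule.mem_colon_singleton,
      Submodule.mem_bot, ← Ideal.Quotient.algebraMap_eq, algebraMap_smul]
  haveI := h q hq
  let Aq := Localization.AtPrime q
  let Rp := Localization.AtPrime P
  haveI : Module.Flat Aq (Aq ⊗[A] M) :=
    Module.Flat.of_linearEquiv (LocalizedModule.equivTensorProduct q.primeCompl M).symm
  letI : Algebra Aq Rp := (IsLocalization.lift (M := q.primeCompl) (S := Aq) (g := algebraMap A Rp) fun s => by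
    rw [IsScalarTower.algebraMap_apply A R Rp]
    exact IsLocalization.map_units Rp (⟨Ideal.Quotient.mk K s, s.2⟩ : P.primeCompl)).toAlgebra
  haveI : IsScalarTower A Aq Rp := IsScalarTower.of_algebraMap_eq fun x => (IsLocalization.lift_eq _ x).symm
  haveI : Module.Flat Rp (Rp ⊗[A] M) := Module.Flat.of_linearEquiv
    (AlgebraTensorModule.cancelBaseChange A Aq Rp Rp M).symm
  haveI : Module.Flat Rp (Rp ⊗[R] (R ⊗[A] M)) :=
    Module.Flat.of_linearEquiv (AlgebraTensorModule.cancelBaseChange A R Rp Rp M)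
  exact Module.Flat.of_linearEquiv (LocalizedModule.equivTensorProduct P.primeCompl (R ⊗[A] M))

omit [IsNoetherianRing A] in
/-- A prime which is the colon of a finite family of components is the colon of one of them. -/
theorem exists_eq_colon_of_components {N : Type u} [AddCommGroup N] [Module A N] {k : ℕ}
    {P : Fin k → Type u} [∀ i, AddCommGroup (P i)] [∀ i, Module A (P i)] (f : ∀ i, N →ₗ[A] P i)
    (hf : ∀ x, (∀ i, f i x = 0) → x = 0) (q : Ideal A) [q.IsPrime] (x : N)
    (hx : q = (⊥ : Submodule A N).colon {x}) : ∃ i, q = (⊥ : Submodule A (P i)).colon {f i x} := by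
  have h1 : q = Finset.univ.inf fun i => (⊥ : Submodule A (P i)).colon {f i x} := by
    rw [hx]
    ext a
    simp only [Submodule.mem_colon_singleton, Submodule.mem_bot, Submodule.mem_finsetInf, Finset.mem_univ,
      forall_true_left, ← map_smul]
    exact ⟨fun h i => by rw [h, map_zero], hf _⟩
  obtain ⟨i, -, hi⟩ := Ideal.eq_inf_of_isPrime_inf (s := Finset.univ) (h1 ▸ ‹q.IsPrime›)
  exact ⟨i, h1.trans hi.symm⟩

/-- With flat graded pieces, the powers of `J` have no new associated primes. -/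
theorem associatedPrimes_pow_subset (hgr : ∀ k : ℕ, Module.Flat (A ⧸ J) ((A ⧸ J) ⊗[A] ↥(J ^ k))) :
    ∀ n : ℕ, associatedPrimes A (A ⧸ J ^ n) ⊆ associatedPrimes A (A ⧸ J) := by
  classical
  -- associated primes coming from a graded piece
  have piece : ∀ (n : ℕ) (q : Ideal A) [q.IsPrime] (x : A), x ∈ J ^ n →
      (∀ a, a ∈ q ↔ a * x ∈ J ^ (n + 1)) → q ∈ associatedPrimes A (A ⧸ J) := by
    intro n q _ x hxn hq
    haveI := hgr n
    let P := (A ⧸ J) ⊗[A] ↥(J ^ n)
    haveI : Module.FinitePresentation (A ⧸ J) P := Module.finitePresentation_of_finite _ _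
    haveI : Module.Projective (A ⧸ J) P := Module.Flat.projective_of_finitePresentation
    obtain ⟨k, π, hπ⟩ := Module.Finite.exists_fin' (A ⧸ J) P
    obtain ⟨s, hs⟩ := Module.projective_lifting_property π LinearMap.id hπ
    have hy : q = (⊥ : Submodule A P).colon {(1 : A ⧸ J) ⊗ₜ[A] (⟨x, hxn⟩ : ↥(J ^ n))} := by
      ext a
      rw [Submodule.mem_colon_singleton, Submodule.mem_bot, ← TensorProduct.tmul_smul,
        GrothLib.NilFree.mk_tmul_eq_zero_iff, hq]
      rw [← Submodule.comap_map_eq_of_injective (f := (J ^ n).subtype) Subtype.val_injective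
        (J • (⊤ : Submodule A ↥(J ^ n))), Submodule.mem_comap, Submodule.map_smul'', Submodule.map_top,
        Submodule.range_subtype, smul_eq_mul, ← pow_succ']
      rfl
    obtain ⟨i, hi⟩ := exists_eq_colon_of_components
      (fun i : Fin k => ((LinearMap.proj i).comp s).restrictScalars A)
      (fun y hy => by
        have : s y = 0 := funext fun i => hy i
        calc y = π (s y) := (LinearMap.congr_fun hs y).symm
          _ = 0 := by rw [this, map_zero]) q _ hy
    exact (isAssociatedPrime_iff (I := q)).2 ⟨inferInstance, _, hi⟩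
  intro n
  induction n with
  | zero =>
    intro q hq
    haveI : Subsingleton (A ⧸ J ^ 0) := Ideal.Quotient.subsingleton_iff.2 (by rw [pow_zero, Ideal.one_eq_top])
    exact absurd hq not_isAssociatedPrime_of_subsingleton
  | succ n IH =>
    intro q hq
    obtain ⟨hprime, x, hx⟩ := (isAssociatedPrime_iff (I := q) (M := A ⧸ J ^ (n + 1))).1 hq
    obtain ⟨x, rfl⟩ := Ideal.Quotient.mk_surjective x
    have hmem : ∀ (m : ℕ) (a : A), a ∈ (⊥ : Submodule A (A ⧸ J ^ m)).colon {Ideal.Quotient.mk (J ^ m) x} ↔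
        a * x ∈ J ^ m := fun m a => by
      rw [Submodule.mem_colon_singleton, Submodule.mem_bot,
        show a • Ideal.Quotient.mk (J ^ m) x = Ideal.Quotient.mk (J ^ m) (a * x) from rfl,
        Ideal.Quotient.eq_zero_iff_mem]
    have hqx : ∀ a, a ∈ q ↔ a * x ∈ J ^ (n + 1) := fun a => by rw [hx, hmem]
    by_cases hsame : ∀ a, a * x ∈ J ^ n → a ∈ q
    · refine IH ((isAssociatedPrime_iff (I := q) (M := A ⧸ J ^ n)).2 ⟨hprime, Ideal.Quotient.mk _ x, ?_⟩)
      ext a
      rw [hmem]
      exact ⟨fun h => Ideal.pow_le_pow_right n.le_succ ((hqx a).1 h), hsame a⟩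
    · push Not at hsame
      obtain ⟨a, ha, haq⟩ := hsame
      refine piece n q (a * x) ha fun b => ?_
      rw [← mul_assoc, ← hqx]
      exact ⟨fun hb => q.mul_mem_right a hb, fun hba => (hprime.mem_or_mem hba).resolve_right haq⟩

/-- **Flatness along a filtration with flat graded pieces.** -/
theorem flat_iff_of_gr_flat (hsep : ∀ a : Ideal A, IsHausdorff J (↥a ⊗[A] M))
    (hgr : ∀ k : ℕ, Module.Flat (A ⧸ J) ((A ⧸ J) ⊗[A] ↥(J ^ k))) :
    Module.Flat A M ↔
      Module.Flat (A ⧸ J) ((A ⧸ J) ⊗[A] M) ∧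
        ∀ q : associatedPrimes A (A ⧸ J),
          haveI : q.1.IsPrime := IsAssociatedPrime.isPrime q.2
          Module.Flat (Localization.AtPrime q.1) (LocalizedModule q.1.primeCompl M) := by
  refine ⟨fun _ => ⟨inferInstance, fun q => flat_localizedModule M _⟩, fun ⟨hJ, hq⟩ => ?_⟩
  haveI := hJ
  exact flat_of_flat_quotients J M hsep fun n => ⟨J ^ n, le_rfl,
    flat_quotient_of_associatedPrimes J M (J ^ n) le_rfl fun q _ hqn =>
      hq ⟨q, associatedPrimes_pow_subset J hgr n hqn⟩⟩

/-- **Flatness along symbolic powers.** -/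
theorem flat_iff_of_symbolicPowers (hsep : ∀ a : Ideal A, IsHausdorff J (↥a ⊗[A] M))
    {r : ℕ} (p : Fin r → Ideal A) [∀ i, (p i).IsPrime] (hp : ∀ i, J ≤ p i)
    (htop : ∀ n : ℕ, ∃ m : ℕ,
      ⨅ i, Ideal.comap (algebraMap A (Localization.AtPrime (p i)))
        (IsLocalRing.maximalIdeal (Localization.AtPrime (p i)) ^ m) ≤ J ^ n) :
    Module.Flat A M ↔
      Module.Flat (A ⧸ J) ((A ⧸ J) ⊗[A] M) ∧
        ∀ i, Module.Flat (Localization.AtPrime (p i)) (LocalizedModule (p i).primeCompl M) := by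
  classical
  refine ⟨fun _ => ⟨inferInstance, fun i => flat_localizedModule M _⟩, fun ⟨hJ, hq⟩ => ?_⟩
  haveI := hJ
  refine flat_of_flat_quotients J M hsep fun n => ?_
  obtain ⟨m, hm⟩ := htop n
  let L : Fin r → Ideal A := fun i => Ideal.comap (algebraMap A (Localization.AtPrime (p i)))
    (IsLocalRing.maximalIdeal (Localization.AtPrime (p i)) ^ m)
  let K : Ideal A := ⨅ i, L i
  have hpL : ∀ i, p i ^ m ≤ L i := fun i => by
    refine Ideal.map_le_iff_le_comap.1 ?_
    rw [Ideal.map_pow, IsLocalization.AtPrime.map_eq_maximalIdeal]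
  refine ⟨K, hm, flat_quotient_of_associatedPrimes J M K (e := m)
    (le_iInf fun i => le_trans (Ideal.pow_right_mono (hp i) m) (hpL i)) fun q _ hqK => ?_⟩
  obtain ⟨-, x, hx⟩ := (isAssociatedPrime_iff (I := q) (M := A ⧸ K)).1 hqK
  obtain ⟨i, hi⟩ := exists_eq_colon_of_components
    (fun i => (Ideal.Quotient.factorₐ A (iInf_le L i)).toLinearMap)
    (fun y hy => by
      obtain ⟨y, rfl⟩ := Ideal.Quotient.mk_surjective y
      exact Ideal.Quotient.eq_zero_iff_mem.2 ((Submodule.mem_iInf L).2 fun i =>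
        Ideal.Quotient.eq_zero_iff_mem.1 (hy i))) q x hx
  obtain ⟨y, rfl⟩ := Ideal.Quotient.mk_surjective x
  have hmem : ∀ a, a ∈ q ↔ a * y ∈ L i := fun a => by
    rw [hi, Submodule.mem_colon_singleton, Submodule.mem_bot]
    show Ideal.Quotient.mk (L i) (a * y) = 0 ↔ _
    rw [Ideal.Quotient.eq_zero_iff_mem]
  have hy : y ∉ L i := fun h => ‹q.IsPrime›.ne_top ((Ideal.eq_top_iff_one q).2 ((hmem 1).2 (by rwa [one_mul])))
  obtain rfl : q = p i := by
    refine le_antisymm (fun a ha => ?_) fun a ha => ?_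
    · by_contra hap
      refine hy ?_
      have h := (hmem a).1 ha
      rw [Ideal.mem_comap, map_mul] at h
      exact (Ideal.unit_mul_mem_iff_mem _
        (IsLocalization.map_units (Localization.AtPrime (p i)) (⟨a, hap⟩ : (p i).primeCompl))).1 h
    · exact ‹q.IsPrime›.mem_of_pow_mem m
        ((hmem _).2 (Ideal.mul_mem_right _ _ (hpL i (Ideal.pow_mem_pow ha m))))
  exact hq i

end GrothLib.SepFlat
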